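import Groth.Agent.UFDExtend.Charts
import Groth.Agent.PerfLib.Cocycle
import Groth.Agent.ModGlue.Basic
import Groth.Agent.ProjUPLib.FrameTriv
import Groth.Agent.TensorMod.Invertible

/-!
# Invertible modules extend across points with factorial local rings
-/

set_option autoImplicit false
set_option backward.isDefEq.respectTransparency false
set_option backward.isDefEq.respectTransparency.types false
set_option linter.style.haveILetI false

noncomputable section

universe u

open CategoryTheory AlgebraicGeometry Opposite TopologicalSpace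
open Groth.Agent.QCohBase Groth.Agent.GenLocus

namespace Groth.Agent.UFDExtend

variable {X : Scheme.{u}}

theorem injRes_of_dense [IsLocallyNoetherian X] {U : X.Opens} (hd : Dense (U : Set X))
    (hdom : ∀ x : X, x ∉ U → IsDomain (X.presheaf.stalk x)) : InjRes X U := by
  intro O f g hfg
  refine TopCat.Presheaf.section_ext X.sheaf _ _ _ fun y hy => ?_
  show X.presheaf.germ O y hy f = X.presheaf.germ O y hy g
  by_cases hyU : y ∈ U
  · have := congrArg (X.presheaf.germ (O ⊓ U) y ⟨hy, hyU⟩) hfg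
    simp only [ores] at this
    erw [TopCat.Presheaf.germ_res_apply, TopCat.Presheaf.germ_res_apply] at this
    exact this
  haveI := hdom y hyU
  obtain ⟨A, hyA, hA, hAO, hgerm⟩ := X.exists_le_and_germ_injective y O hy
  haveI : IsDomain Γ(X, A) := hgerm.isDomain (X.presheaf.germ A y hyA).hom
  obtain ⟨z, hzA, hzU⟩ := hd.inter_open_nonempty _ A.2 ⟨y, hyA⟩
  obtain ⟨h, hh, hzh⟩ := hA.exists_basicOpen_le ⟨z, hzU⟩ hzA
  have h0 : h ≠ 0 := fun he => by
    rw [he, Scheme.basicOpen_zero] at hzh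
    exact hzh
  have key : ores hAO f = ores hAO g := by
    refine ores_injective_affine hA h0 ?_
    rw [ores_ores, ores_ores]
    have := congrArg (ores (le_inf ((X.basicOpen_le h).trans hAO) hh)) hfg
    rwa [ores_ores, ores_ores] at this
  have := congrArg (X.presheaf.germ A y hyA) key
  simp only [ores] at this
  erw [TopCat.Presheaf.germ_res_apply, TopCat.Presheaf.germ_res_apply] at this
  exact this

/-- A map out of a glued module given by the images of the frames. -/
theorem exists_hom_of_frames {M N : X.Modules} {ι : Type u} (A : ι → X.Opens) (cover : ∀ x : X, ∃ i, x ∈ A i)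
    (e : ∀ i, Γ(M, A i)) (he : ∀ i, IsFrame M (e i)) (e' : ∀ i, Γ(N, A i))
    (h : ∀ i j, ∃ r : Γ(X, A i ⊓ A j), r • mres M inf_le_right (e j) = mres M inf_le_left (e i) ∧
      r • mres N inf_le_right (e' j) = mres N inf_le_left (e' i)) :
    ∃ φ : M ⟶ N, ∀ i, φ.app (A i) (e i) = e' i := by
  have hcov : ∀ V : X.Opens, V ≤ ⨆ i, V ⊓ A i := fun V x hx => by
    obtain ⟨i, hi⟩ := cover x
    exact Opens.mem_iSup.mpr ⟨i, hx, hi⟩
  let P : ∀ V : X.Opens, Γ(M, V) → Γ(N, V) → Prop := fun V m n => ∀ (i : ι) (W : X.Opens) (hW : W ≤ V) (hA : W ≤ A i)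
    (r : Γ(X, W)), r • mres M hA (e i) = mres M hW m → mres N hW n = r • mres N hA (e' i)
  have uniq : ∀ V m n n', P V m n → P V m n' → n = n' := fun V m n n' hn hn' => by
    refine eq_of_iSup_le N (fun i => V ⊓ A i) (fun i => inf_le_left) (hcov V) _ _ fun i => ?_
    obtain ⟨r, hr⟩ := (he i (V ⊓ A i) inf_le_right).2 (mres M inf_le_left m)
    rw [hn i _ inf_le_left inf_le_right r hr, hn' i _ inf_le_left inf_le_right r hr]
  have ex : ∀ V m, ∃ n, P V m n := fun V m => by
    choose r hr using fun i => (he i (V ⊓ A i) inf_le_right).2 (mres M inf_le_left m)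
    simp only [] at hr
    have compat : ∀ i j (W : X.Opens) (hW : W ≤ V) (hi : W ≤ A i) (hj : W ≤ A j) (a b : Γ(X, W)),
        a • mres M hi (e i) = mres M hW m → b • mres M hj (e j) = mres M hW m →
        a • mres N hi (e' i) = b • mres N hj (e' j) := fun i j W hW hi hj a b ha hb => by
      obtain ⟨q, hq, hq'⟩ := h i j
      have e1 := congrArg (mres M (le_inf hi hj)) hq
      have e2 := congrArg (mres N (le_inf hi hj)) hq'
      rw [mres_smul, mres_mres, mres_mres] at e1 e2
      rw [← e2, smul_smul]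
      congr 1
      refine (he j W hj).1 ?_
      show _ • mres M hj (e j) = b • mres M hj (e j)
      rw [mul_smul, e1, ha, hb]
    obtain ⟨n, hn, -⟩ := TopCat.Sheaf.existsUnique_gluing' ⟨N.presheaf, N.isSheaf⟩ (fun i => V ⊓ A i) V
      (fun i => homOfLE inf_le_left) (hcov V) (fun i => r i • mres N inf_le_right (e' i)) fun i j => by
        show mres N _ (r i • _) = mres N _ (r j • _)
        rw [mres_smul, mres_smul, mres_mres, mres_mres]
        refine compat i j _ (inf_le_left.trans inf_le_left) _ _ _ _ ?_ ?_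
        · have := congrArg (mres M (inf_le_left : (V ⊓ A i) ⊓ (V ⊓ A j) ≤ V ⊓ A i)) (hr i)
          simp only [mres_smul, mres_mres] at this
          exact this
        · have := congrArg (mres M (inf_le_right : (V ⊓ A i) ⊓ (V ⊓ A j) ≤ V ⊓ A j)) (hr j)
          simp only [mres_smul, mres_mres] at this
          exact this
    refine ⟨n, fun i W hW hA a ha => ?_⟩
    have hni : mres N inf_le_left n = r i • mres N inf_le_right (e' i) := hn i
    have e3 := congrArg (mres N (le_inf hW hA)) hni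
    rw [mres_mres, mres_smul, mres_mres] at e3
    rw [e3]
    congr 1
    refine (he i W hA).1 ?_
    show _ • mres M hA (e i) = a • mres M hA (e i)
    have := congrArg (mres M (le_inf hW hA)) (hr i)
    rw [mres_smul, mres_mres, mres_mres] at this
    rw [this, ha]
  choose f hf using ex
  let φ : M ⟶ N := modHomMk
    (fun V => AddMonoidHom.mk' (f V) fun m m' => uniq V _ _ _ (hf V (m + m')) fun i W hW hA r hr => by
      obtain ⟨a, ha⟩ := (he i W hA).2 (mres M hW m)
      obtain ⟨b, hb⟩ := (he i W hA).2 (mres M hW m')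
      have : r = a + b := (he i W hA).1 (by
        show r • mres M hA (e i) = (a + b) • mres M hA (e i)
        rw [hr, map_add, add_smul]; exact congrArg₂ (· + ·) ha.symm hb.symm)
      rw [map_add, hf V m i W hW hA a ha, hf V m' i W hW hA b hb, this, add_smul])
    (fun V W h m => uniq W _ _ _ (fun i W' hW' hA r hr => by
      rw [mres_mres]
      exact hf V m i W' _ hA r (by rw [hr, mres_mres])) (hf W _))
    (fun V s m => uniq V _ _ _ (hf V (s • m)) fun i W hW hA r hr => by
      obtain ⟨a, ha⟩ := (he i W hA).2 (mres M hW m)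
      have : r = ores hW s * a := (he i W hA).1 (by
        show r • mres M hA (e i) = (ores hW s * a) • mres M hA (e i)
        rw [hr, mres_smul, mul_smul]; exact congrArg _ ha.symm)
      show mres N hW (s • f V m) = _
      rw [mres_smul, hf V m i W hW hA a ha, this, mul_smul])
  refine ⟨φ, fun i => ?_⟩
  have h1 := hf (A i) (e i) i (A i) le_rfl le_rfl 1 (by rw [one_smul])
  rw [mres_refl, mres_refl, one_smul] at h1
  exact h1

/-- A map sending frames to frames is bijective on sections. -/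
theorem bijective_app_of_frames {M N : X.Modules} (φ : M ⟶ N) (V : X.Opens)
    (h : ∀ x ∈ V, ∃ (A : X.Opens) (_ : x ∈ A) (e : Γ(M, A)), IsFrame M e ∧ IsFrame N (φ.app A e)) :
    Function.Bijective (φ.app V) := by
  choose U hxU e he he' using h
  have hle : ∀ x : V, U x.1 x.2 ⊓ V ≤ V := fun x ↦ inf_le_right
  have hcov : V ≤ ⨆ x : V, U x.1 x.2 ⊓ V := fun x hx ↦ Opens.mem_iSup.mpr ⟨⟨x, hx⟩, hxU x hx, hx⟩
  have hloc : ∀ (x : V) (W : X.Opens) (hW : W ≤ U x.1 x.2), Function.Bijective (φ.app W) := fun x W hW ↦ by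
    rw [← Function.Bijective.of_comp_iff (φ.app W) (he x.1 x.2 W hW)]
    convert he' x.1 x.2 W hW using 1
    exact funext fun r ↦ (app_smul' φ r _).trans (congrArg (r • ·) (app_mres φ hW (e x.1 x.2)).symm)
  refine ⟨fun a b hab ↦ eq_of_iSup_le M _ hle hcov _ _ fun x ↦ ?_, fun σ ↦ ?_⟩
  · refine (hloc x _ inf_le_left).1 ?_
    rw [← app_mres φ (hle x) a, ← app_mres φ (hle x) b]
    exact congrArg _ hab
  · choose τ hτ using fun x : V ↦ (hloc x (U x.1 x.2 ⊓ V) inf_le_left).2 (mres N (hle x) σ)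
    obtain ⟨t, ht, -⟩ := TopCat.Sheaf.existsUnique_gluing' ⟨M.presheaf, M.isSheaf⟩
      (fun x : V ↦ U x.1 x.2 ⊓ V) V (fun x ↦ homOfLE (hle x)) hcov τ (fun x y ↦ by
        show mres M inf_le_left (τ x) = mres M inf_le_right (τ y)
        refine (hloc x _ (inf_le_left.trans inf_le_left)).1 ?_
        rw [← app_mres, ← app_mres, hτ, hτ, mres_mres, mres_mres])
    refine ⟨t, eq_of_iSup_le N _ hle hcov _ _ fun x ↦ ?_⟩
    rw [app_mres, ← hτ x]
    exact congrArg _ (ht x)

theorem exists_frame_pushforward {U : X.Opens} {L : (U : Scheme.{u}).Modules} (hL : PicF.IsInvertible L)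
    {x : X} (hx : x ∈ U) :
    ∃ (V : X.Opens) (_ : x ∈ V) (_ : V ≤ U) (a : Γ((Scheme.Modules.pushforward U.ι).obj L, V)),
      IsFrame _ a := by
  let M := (Scheme.Modules.pushforward U.ι).obj L
  let eL : M.restrict U.ι ≅ L := asIso ((Scheme.Modules.restrictAdjunction U.ι).counit.app L)
  obtain ⟨V, hxV, ⟨t⟩⟩ := (TensorMod.isInvertible_of_iso eL.symm hL) ⟨x, hx⟩
  let e := U.ι.isoImage V
  have ht : M.restrict (U.ι ''ᵁ V).ι ≅ Coh.structureModule ((U.ι ''ᵁ V : X.Opens) : Scheme.{u}) := by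
    refine (Scheme.Modules.restrictFunctorCongr (show (U.ι ''ᵁ V).ι = e.inv ≫ V.ι ≫ U.ι by
      rw [← cancel_epi e.hom, Iso.hom_inv_id_assoc]; exact U.ι.isoImage_hom_ι V)).app M ≪≫ ?_
    refine (Scheme.Modules.restrictFunctorComp e.inv (V.ι ≫ U.ι)).app M ≪≫
      (Scheme.Modules.restrictFunctor e.inv).mapIso ?_ ≪≫ Scheme.Modules.restrictUnitIso e.inv
    exact (Scheme.Modules.restrictFunctorComp V.ι U.ι).app M ≪≫ t
  obtain ⟨e₀, he₀⟩ := exists_isFrame_of_triv ht
  exact ⟨U.ι ''ᵁ V, (show x ∈ ⇑U.ι '' (V : Set U) from ⟨⟨x, hx⟩, hxV, rfl⟩), (U.ι.image_le_opensRange V).trans_eq U.opensRange_ι, e₀, he₀⟩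

/-- The extension across a closed subset with dense complement. -/
theorem exists_extend_of_dense [IsLocallyNoetherian X] {U : X.Opens} (hd : Dense (U : Set X))
    (L : (U : Scheme.{u}).Modules) (hL : PicF.IsInvertible L)
    (hufd : ∀ x : X, x ∉ U → UniqueFactorizationMonoid (X.presheaf.stalk x)) :
    ∃ L' : X.Modules, PicF.IsInvertible L' ∧ Nonempty (L'.restrict U.ι ≅ L) := by
  classical
  let M := (Scheme.Modules.pushforward U.ι).obj L
  have hdom : ∀ x : X, x ∉ U → IsDomain (X.presheaf.stalk x) := fun x hx => by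
    haveI := hufd x hx
    haveI : IsCancelMulZero (X.presheaf.stalk x) := UniqueFactorizationMonoid.toIsCancelMulZero
    exact { }
  have hinj : InjRes X U := injRes_of_dense hd hdom
  have hres : ∀ W : X.Opens, Function.Bijective (mres M (inf_le_left : W ⊓ U ≤ W)) := fun W => by
    have hle : U.ι ⁻¹ᵁ W ≤ U.ι ⁻¹ᵁ (W ⊓ U) := fun z hz => ⟨hz, z.2⟩
    refine ⟨fun a b hab => ?_, fun c => ⟨mres L hle c, ?_⟩⟩
    · have := congrArg (mres L hle) (show mres L (U.ι.preimage_mono inf_le_left) a =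
        mres L (U.ι.preimage_mono inf_le_left) b from hab)
      simpa only [mres_mres, mres_refl] using this
    · show mres L (U.ι.preimage_mono inf_le_left) (mres L hle c) = c
      rw [mres_mres, mres_refl]
  obtain ⟨S, hS, hSmax⟩ : ∃ S : Set (Chart M U), (∀ p ∈ S, ∀ q ∈ S, Chart.Compat p q) ∧
      ∀ q : Chart M U, (∀ p ∈ S, Chart.Compat q p) → q ∈ S := by
    obtain ⟨S, hS⟩ := zorn_subset {S : Set (Chart M U) | ∀ p ∈ S, ∀ q ∈ S, Chart.Compat p q} fun c hc hch =>
      ⟨⋃₀ c, (by
        show ∀ p ∈ ⋃₀ c, ∀ q ∈ ⋃₀ c, Chart.Compat p q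
        rintro p ⟨s, hs, hp⟩ q ⟨t, ht, hq⟩
        exact (hch.total hs ht).elim (fun h => hc ht p (h hp) q hq) (fun h => hc hs p hp q (h hq))),
        fun s hs => Set.subset_sUnion_of_mem hs⟩
    refine ⟨S, hS.prop, fun q hq => hS.le_of_ge (y := insert q S) ?_ (Set.subset_insert q S) (Set.mem_insert q S)⟩
    rintro a (rfl | ha) b (rfl | hb)
    · exact Chart.Compat.refl
    · exact hq b hb
    · exact (hq a ha).symm
    · exact hS.prop a ha b hb
  have hUS : ∀ y ∈ U, ∃ p ∈ S, y ∈ p.W := fun y hy => by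
    obtain ⟨V, hyV, hVU, a, ha⟩ := exists_frame_pushforward hL hy
    let p : Chart M U := ⟨V, mres M (inf_le_left : V ⊓ U ≤ V) a, ha.res _⟩
    refine ⟨p, hSmax p fun q _ => ?_, hyV⟩
    exact Chart.exists_chg_of_le _ _ ((inf_le_left : p.W ⊓ q.W ≤ p.W).trans hVU)
  have hcover : ∀ x : X, ∃ p : S, x ∈ p.1.W := fun x => by
    by_cases hxU : x ∈ U
    · obtain ⟨p, hp, hxp⟩ := hUS x hxU
      exact ⟨⟨p, hp⟩, hxp⟩
    haveI := hdom x hxU
    obtain ⟨W, hxW, hW, -, hgerm⟩ := X.exists_le_and_germ_injective x ⊤ trivial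
    haveI : IsDomain Γ(X, W) := hgerm.isDomain (X.presheaf.germ W x hxW).hom
    haveI : IsNoetherianRing Γ(X, W) := IsLocallyNoetherian.component_noetherian ⟨W, hW⟩
    have hcpt : ∀ O ≤ W, IsCompact (O : Set X) := fun O hO => by
      haveI := noetherianSpace_of_isAffineOpen W hW
      have := (NoetherianSpace.isCompact (α := W) (Subtype.val ⁻¹' (O : Set X))).image continuous_subtype_val
      have hO' : (Subtype.val : W → X) '' (Subtype.val ⁻¹' (O : Set X)) = (O : Set X) := by
        rw [Set.image_preimage_eq_inter_range, Subtype.range_coe_subtype]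
        exact Set.inter_eq_left.2 fun z hz => hO hz
      rwa [hO'] at this
    haveI : UniqueFactorizationMonoid (Localization.AtPrime (hW.primeIdealOf ⟨x, hxW⟩).asIdeal) := by
      letI := (X.presheaf.germ W x hxW).hom.toAlgebra
      haveI : IsLocalization.AtPrime (X.presheaf.stalk x) (hW.primeIdealOf ⟨x, hxW⟩).asIdeal :=
        hW.isLocalization_stalk ⟨x, hxW⟩
      exact (IsLocalization.algEquiv (hW.primeIdealOf ⟨x, hxW⟩).asIdeal.primeCompl (X.presheaf.stalk x)
        (Localization.AtPrime (hW.primeIdealOf ⟨x, hxW⟩).asIdeal)).toRingEquiv.toMulEquiv.uniqueFactorizationMonoid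
          (hufd x hxU)
    obtain ⟨q, hxq, hq⟩ := exists_chart hinj S hS hUS x hW hxW hcpt (hd.inter_open_nonempty _ W.2 ⟨x, hxW⟩)
    exact ⟨⟨q, hSmax q hq⟩, hxq⟩
  choose c hcu hcc using fun i j : S => hS i.1 i.2 j.1 j.2
  let d : PerfLib.Cocycle X S :=
    { A := fun i => i.1.W
      cover := hcover
      c := c
      self := fun i => (hcc i i).uniq hinj (Chart.chg_self _)
      cocycle := fun i j k x hi hj hk => by
        have hle : i.1.W ⊓ j.1.W ⊓ k.1.W ≤ i.1.W ⊓ k.1.W := inf_le_inf_right _ inf_le_left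
        have h1 : i.1.W ⊓ j.1.W ⊓ k.1.W ≤ i.1.W ⊓ j.1.W := inf_le_left
        have h2 : i.1.W ⊓ j.1.W ⊓ k.1.W ≤ j.1.W ⊓ k.1.W := inf_le_inf_right _ inf_le_right
        have e := (((hcc i j).mono h1).trans ((hcc j k).mono h2)).uniq hinj ((hcc i k).mono hle)
        have hx : x ∈ i.1.W ⊓ j.1.W ⊓ k.1.W := And.intro (And.intro hi hj) hk
        have e' := congrArg (X.presheaf.germ _ x hx) e
        rw [map_mul] at e'
        simp only [ores] at e'
        erw [TopCat.Presheaf.germ_res_apply, TopCat.Presheaf.germ_res_apply, TopCat.Presheaf.germ_res_apply] at e'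
        exact e' }
  choose e' he' using fun i : S => (hres i.1.W).2 i.1.e
  obtain ⟨φ, hφ⟩ := exists_hom_of_frames (M := d.mod) (N := M) d.A hcover d.gen d.isFrame_gen e' fun i j => by
    refine ⟨c i j, d.gen_eq i j, (hres (i.1.W ⊓ j.1.W)).1 ?_⟩
    have h := hcc i j
    simp only [Chart.Chg, Chart.res, ← he', mres_mres] at h
    show mres M inf_le_left (c i j • mres M inf_le_right (e' j)) = mres M inf_le_left (mres M inf_le_left (e' i))
    rw [mres_smul, mres_mres, mres_mres]
    exact h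
  have hiso : IsIso ((Scheme.Modules.restrictFunctor U.ι).map φ) := by
    rw [Scheme.Modules.Hom.isIso_iff_isIso_app]
    intro V
    rw [ConcreteCategory.isIso_iff_bijective]
    show Function.Bijective (φ.app (U.ι ''ᵁ V))
    refine bijective_app_of_frames φ _ fun y hy => ?_
    have hyU : y ∈ U := (U.ι.image_le_opensRange V).trans_eq U.opensRange_ι hy
    obtain ⟨i, hi⟩ := hcover y
    refine ⟨i.1.W ⊓ U, ⟨hi, hyU⟩, mres d.mod inf_le_left (d.gen i), (d.isFrame_gen i).res _, ?_⟩
    rw [← app_mres, hφ, he']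
    exact i.1.frame
  exact ⟨d.mod, d.isInvertible, ⟨asIso ((Scheme.Modules.restrictFunctor U.ι).map φ) ≪≫
    asIso ((Scheme.Modules.restrictAdjunction U.ι).counit.app L)⟩⟩

/-- Extension of invertible modules across points with factorial local rings. -/
theorem exists_extend [IsLocallyNoetherian X] (U : X.Opens)
    (L : (U : Scheme.{u}).Modules) (hL : PicF.IsInvertible L)
    (hufd : ∀ x : X, x ∉ U → UniqueFactorizationMonoid (X.presheaf.stalk x)) :
    ∃ L' : X.Modules, PicF.IsInvertible L' ∧ Nonempty (L'.restrict U.ι ≅ L) := by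
  let O : X.Opens := ⟨(closure (U : Set X))ᶜ, isClosed_closure.isOpen_compl⟩
  let U₂ : X.Opens := U ⊔ O
  have hd : Dense (U₂ : Set X) := by
    refine dense_iff_closure_eq.2 (Set.eq_univ_of_forall fun x => ?_)
    by_cases hx : x ∈ closure (U : Set X)
    · exact closure_mono (fun y hy => (le_sup_left : U ≤ U₂) hy) hx
    · exact subset_closure ((le_sup_right : O ≤ U₂) (show x ∈ O from hx))
  let M := (Scheme.Modules.pushforward U.ι).obj L
  let U' : (U₂ : Scheme.{u}).Opens := U₂.ι ⁻¹ᵁ U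
  let W' : (U₂ : Scheme.{u}).Opens := U₂.ι ⁻¹ᵁ O
  have hWU : ∀ z, z ∈ W' ⊓ U' → False := fun z hz => hz.1 (subset_closure hz.2)
  let D : ModGlue.Data (U₂ : Scheme.{u}) :=
    { M := M.restrict U₂.ι
      U := U'
      ι := PUnit.{u + 1}
      W := fun _ => W'
      e := fun _ => 0
      frame := fun _ V hV => by
        have hz : ∀ N : (U₂ : Scheme.{u}).Modules, ∀ a b : Γ(N, V), a = b := fun N a b =>
          TopCat.Sheaf.eq_of_locally_eq' ⟨N.presheaf, N.isSheaf⟩ (fun i : PEmpty.{u + 1} => PEmpty.elim i) V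
            (fun i => PEmpty.elim i) (fun z hz => (hWU z (hV hz)).elim) a b fun i => PEmpty.elim i
        exact ⟨fun a b _ => hz (Coh.structureModule _) a b, fun a => ⟨0, hz _ _ _⟩⟩
      cover := fun z => (show z.1 ∈ U ∨ z.1 ∈ O from z.2).imp id fun h => ⟨⟨⟩, h⟩
      disj := fun i j h => absurd (Subsingleton.elim i j) h }
  let eL : M.restrict U.ι ≅ L := asIso ((Scheme.Modules.restrictAdjunction U.ι).counit.app L)
  have hle : U ≤ U₂ := le_sup_left
  let j : (U : Scheme.{u}) ⟶ (U' : Scheme.{u}) := IsOpenImmersion.lift U'.ι (X.homOfLE hle) (by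
    rintro _ ⟨z, rfl⟩
    rw [Scheme.Opens.range_ι]
    show U₂.ι (X.homOfLE hle z) ∈ U
    rw [← Scheme.Hom.comp_apply, Scheme.homOfLE_ι]
    exact z.2)
  have hj : j ≫ U'.ι = X.homOfLE hle := IsOpenImmersion.lift_fac _ _ _
  haveI : IsOpenImmersion (j ≫ U'.ι) := by rw [hj]; infer_instance
  haveI : IsOpenImmersion j := IsOpenImmersion.of_comp j U'.ι
  have hDinv : PicF.IsInvertible D.mod := D.isInvertible fun z hz => by
    obtain ⟨V, hzV, hVU, a, ha⟩ := exists_frame_pushforward hL (x := U₂.ι z) hz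
    refine ⟨U₂.ι ⁻¹ᵁ V, hzV, U₂.ι.preimage_mono hVU,
      (M.restrictAppIso U₂.ι _).inv (mres M (show U₂.ι ''ᵁ U₂.ι ⁻¹ᵁ V ≤ V from
        fun y ⟨w, hw, e⟩ => e ▸ hw) a), fun V' hV' => ?_⟩
    have hle' : U₂.ι ''ᵁ V' ≤ V := fun y ⟨w, hw, e⟩ => e ▸ hV' hw
    have h1 := ConcreteCategory.bijective_of_isIso (M.restrictAppIso U₂.ι V').inv
    have h2 := ConcreteCategory.bijective_of_isIso (U₂.ι.appIso V').inv
    have hfun : (fun r : Γ((U₂ : Scheme.{u}), V') => r • mres (M.restrict U₂.ι) hV'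
        ((M.restrictAppIso U₂.ι _).inv (mres M (show U₂.ι ''ᵁ U₂.ι ⁻¹ᵁ V ≤ V from
          fun y ⟨w, hw, e⟩ => e ▸ hw) a))) =
        (M.restrictAppIso U₂.ι V').inv ∘ (fun r => r • mres M hle' a) ∘ (U₂.ι.appIso V').inv := funext fun r => by
      refine (ConcreteCategory.bijective_of_isIso (M.restrictAppIso U₂.ι V').hom).1 ?_
      rw [Scheme.Modules.smul_restrictAppIso_hom_apply]
      simp only [Function.comp_apply]
      erw [Iso.inv_hom_id_apply]
      congr 1
      refine (ConcreteCategory.congr_hom (Scheme.Modules.map_restrictAppIso_hom U₂.ι M (homOfLE hV').op) _).trans ?_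
      erw [ConcreteCategory.comp_apply, Iso.inv_hom_id_apply]
      exact mres_mres M _ _ a
    rw [hfun]
    exact h1.comp ((ha _ hle').comp h2)
  obtain ⟨L', hL', ⟨i⟩⟩ := exists_extend_of_dense hd D.mod hDinv fun x hx => hufd x fun h => hx (hle h)
  obtain ⟨k⟩ := D.nonempty_restrict_iso
  refine ⟨L', hL', ⟨?_⟩⟩
  refine (Scheme.Modules.restrictFunctorCongr (Scheme.homOfLE_ι X hle)).symm.app L' ≪≫
    (Scheme.Modules.restrictFunctorComp (X.homOfLE hle) U₂.ι).app L' ≪≫
    (Scheme.Modules.restrictFunctor (X.homOfLE hle)).mapIso i ≪≫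
    (Scheme.Modules.restrictFunctorCongr hj).symm.app D.mod ≪≫
    (Scheme.Modules.restrictFunctorComp j U'.ι).app D.mod ≪≫
    (Scheme.Modules.restrictFunctor j).mapIso k ≪≫
    ((Scheme.Modules.restrictFunctorComp j U'.ι).app _).symm ≪≫
    (Scheme.Modules.restrictFunctorCongr hj).app _ ≪≫
    ((Scheme.Modules.restrictFunctorComp (X.homOfLE hle) U₂.ι).app M).symm ≪≫
    (Scheme.Modules.restrictFunctorCongr (Scheme.homOfLE_ι X hle)).app M ≪≫ eL

end Groth.Agent.UFDExtend
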