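import Groth.Agent.UFDExtend.Main
import Groth.Agent.ParaFUFD.Pic

/-!
# Invertible modules on opens of the spectrum of a factorial ring are trivial
-/

set_option autoImplicit false
set_option backward.isDefEq.respectTransparency false
set_option backward.isDefEq.respectTransparency.types false
set_option linter.style.haveILetI false

noncomputable section

universe u

open CategoryTheory AlgebraicGeometry Opposite TopologicalSpace
open Groth.Agent.QCohBase Groth.Agent.GenLocus Groth.Agent.ParaFUFD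

namespace Groth.Agent.UFDExtend

variable {A : Type u} [CommRing A] [IsDomain A] [UniqueFactorizationMonoid A]

local notation "P" => Spec (CommRingCat.of A)

/-- A unit on an open containing all height one points of `U` extends to a unit on `U`. -/
theorem exists_ext_unit {U U₀ : (P).Opens} (hle : U₀ ≤ U) (hne : (U₀ : Set P).Nonempty)
    (hU₀ : ∀ (π : A) (y : P), Prime π → y ∈ U → y.asIdeal = Ideal.span {π} → y ∈ U₀)
    {u : Γ(P, U₀)} (hu : IsUnit u) : ∃ w : Γ(P, U), IsUnit w ∧ ores hle w = u := by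
  obtain ⟨r, s, hs0, hrs, hus⟩ := exists_fraction hne u
  have hr0 : r ≠ 0 := fun h => by
    obtain ⟨x, hx⟩ := hne
    have hgen : (⟨⊥, Ideal.isPrime_bot⟩ : PrimeSpectrum A) ∈ U₀ :=
      Specializes.mem_open (y := x)
        ((PrimeSpectrum.le_iff_specializes _ _).1 (show (⊥ : Ideal A) ≤ x.asIdeal from bot_le)) U₀.2 hx
    exact hs0 (Ideal.mem_bot.1
      ((mem_iff_of_unit hu hus (x := (⟨⊥, Ideal.isPrime_bot⟩ : PrimeSpectrum A)) hgen).1 (h ▸ Ideal.zero_mem _)))
  have key : ∀ z : A, z ≠ 0 → (∀ π, Prime π → π ∣ z → π ∣ r → π ∣ s → False) →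
      (z = r ∨ z = s) → IsUnit (glo U z) := by
    intro z hz0 hcop hz
    refine (isUnit_glo_iff U z).2 fun y hy hzy => ?_
    obtain ⟨t, ht⟩ := UniqueFactorizationMonoid.factors_prod hz0
    have hmem : (UniqueFactorizationMonoid.factors z).prod ∈ y.asIdeal := by
      rw [← ht] at hzy
      exact (Ideal.mul_unit_mem_iff_mem _ t.isUnit).1 hzy
    obtain ⟨π, hπf, hπy⟩ := (y.isPrime.multiset_prod_mem_iff_exists_mem _).1 hmem
    have hπ := UniqueFactorizationMonoid.prime_of_factor π hπf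
    have hd : π ∣ z := UniqueFactorizationMonoid.dvd_of_mem_factors hπf
    obtain ⟨y', hy'U, hy'⟩ := prime_point hπ hπy hy
    have hiff := mem_iff_of_unit hu hus (hU₀ π y' hπ hy'U hy')
    rw [hy', Ideal.mem_span_singleton, Ideal.mem_span_singleton] at hiff
    rcases hz with rfl | rfl
    · exact hcop π hπ hd hd (hiff.1 hd)
    · exact hcop π hπ hd (hiff.2 hd) hd
  have hcop : ∀ (z π : A), Prime π → π ∣ z → π ∣ r → π ∣ s → False :=
    fun z π hπ _ h1 h2 => hπ.not_isUnit (hrs h1 h2)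
  have hr := key r hr0 (hcop r) (Or.inl rfl)
  have hs := key s hs0 (hcop s) (Or.inr rfl)
  obtain ⟨v, hv⟩ := hs.exists_right_inv
  refine ⟨glo U r * v, hr.mul (IsUnit.of_mul_eq_one_right _ hv), ?_⟩
  have hs' : IsUnit (glo U₀ s) := by rw [← ores_glo hle s]; exact hs.map _
  refine hs'.mul_right_cancel ?_
  have := congrArg (ores hle) hv
  simp only [map_mul, map_one, ores_glo] at this ⊢
  linear_combination (glo U₀ r) * this - hus

/-- Every invertible module on an open of the spectrum of a factorial ring is trivial. -/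
theorem picTrivial_ufd (U : (P).Opens) : ParaF.PicTrivial (U : Scheme.{u}) := by
  classical
  intro L hL
  let M := (Scheme.Modules.pushforward U.ι).obj L
  let eL : M.restrict U.ι ≅ L := asIso ((Scheme.Modules.restrictAdjunction U.ι).counit.app L)
  suffices h : ∃ E : Γ(M, U), IsFrame M E by
    obtain ⟨E, hE⟩ := h
    obtain ⟨i⟩ := nonempty_iso_of_isFrame hE
    exact ⟨eL.symm ≪≫ i⟩
  by_cases hne : (U : Set P).Nonempty
  swap
  · exact ⟨0, fun V hV => ⟨fun a b _ => mres_bot_ext (Coh.structureModule P) (fun ⟨y, hy⟩ => hne ⟨y, hV hy⟩) a b,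
      fun a => ⟨0, mres_bot_ext M (fun ⟨y, hy⟩ => hne ⟨y, hV hy⟩) _ _⟩⟩⟩
  have key : ∀ x : U, ∃ g : A, g ∉ x.1.asIdeal ∧ (PrimeSpectrum.basicOpen g : (P).Opens) ≤ U ∧
      ∃ e : Γ(M, (PrimeSpectrum.basicOpen g : (P).Opens)), IsFrame M e := by
    intro x
    obtain ⟨V, hxV, hVU, a, ha⟩ := exists_frame_pushforward hL x.2
    obtain ⟨_, ⟨g, rfl⟩, hxg, hg⟩ := PrimeSpectrum.isTopologicalBasis_basic_opens.exists_subset_of_mem_open
      (show x.1 ∈ (V : Set P) from hxV) V.2
    exact ⟨g, hxg, fun y hy => hVU (hg hy), _, ha.res hg⟩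
  choose g hxg hgU e he using key
  let x₀ : U := ⟨_, hne.some_mem⟩
  have hg0 : g x₀ ≠ 0 := fun h => hxg x₀ (h ▸ Ideal.zero_mem _)
  let F : A → Finset U := fun π => if h : ∃ y : U, y.1.asIdeal = Ideal.span {π} then {h.choose} else ∅
  let T : Finset U := insert x₀ ((UniqueFactorizationMonoid.factors (g x₀)).toFinset.biUnion F)
  have ind : ∀ S : Finset U, ∃ E : Γ(M, S.sup (fun x => (PrimeSpectrum.basicOpen (g x) : (P).Opens))), IsFrame M E := by
    intro S
    induction S using Finset.induction_on with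
    | empty =>
      rw [Finset.sup_empty]
      refine ⟨0, fun V hV => ⟨fun a b _ => ?_, fun a => ⟨0, mres_bot_ext M (fun ⟨y, hy⟩ => (hV hy).elim) _ _⟩⟩⟩
      exact mres_bot_ext (Coh.structureModule P) (fun ⟨y, hy⟩ => (hV hy).elim) a b
    | insert x S _ ih =>
      rw [Finset.sup_insert, sup_comm]
      obtain ⟨E, hE⟩ := ih
      exact frame_sup M (g x) (fun y => Iff.rfl) hE (he x)
  let U₀ : (P).Opens := T.sup (fun x => (PrimeSpectrum.basicOpen (g x) : (P).Opens))
  obtain ⟨E, hE⟩ : ∃ E : Γ(M, U₀), IsFrame M E := ind T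
  have hle : U₀ ≤ U := Finset.sup_le fun x _ => hgU x
  have hmem : ∀ x ∈ T, ∀ y : P, g x ∉ y.asIdeal → y ∈ U₀ := fun x hx y hy =>
    (Finset.le_sup (f := fun x => (PrimeSpectrum.basicOpen (g x) : (P).Opens)) hx) hy
  have hne₀ : (U₀ : Set P).Nonempty := ⟨x₀.1, hmem x₀ (Finset.mem_insert_self _ _) _ (hxg x₀)⟩
  have hU₀ : ∀ (π : A) (y : P), Prime π → y ∈ U → y.asIdeal = Ideal.span {π} → y ∈ U₀ := by
    intro π y hπ hy hyπ
    by_cases hd : π ∣ g x₀
    · obtain ⟨q, hq, hassoc⟩ := UniqueFactorizationMonoid.exists_mem_factors_of_dvd hg0 hπ.irreducible hd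
      have hyq : y.asIdeal = Ideal.span {q} := hyπ.trans (Ideal.span_singleton_eq_span_singleton.2 hassoc)
      have hex : ∃ z : U, z.1.asIdeal = Ideal.span {q} := ⟨⟨y, hy⟩, hyq⟩
      have hzT : hex.choose ∈ T := by
        simp only [T, Finset.mem_insert, Finset.mem_biUnion, Multiset.mem_toFinset]
        exact Or.inr ⟨q, hq, by simp only [F, dif_pos hex, Finset.mem_singleton]⟩
      have hzy : hex.choose.1 = y := PrimeSpectrum.ext (hex.choose_spec.trans hyq.symm)
      exact hmem _ hzT y (hzy ▸ hxg hex.choose)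
    · exact hmem x₀ (Finset.mem_insert_self _ _) y (by rw [hyπ, Ideal.mem_span_singleton]; exact hd)
  let O : U → (P).Opens := fun x => U₀ ⊔ (PrimeSpectrum.basicOpen (g x) : (P).Opens)
  have hO : ∀ x, O x ≤ U := fun x => sup_le hle (hgU x)
  have hτ : ∀ x : U, ∃ τ : Γ(M, O x), IsFrame M τ ∧ mres M (le_sup_left : U₀ ≤ O x) τ = E := by
    intro x
    obtain ⟨E', hE'⟩ := frame_sup M (g x) (W := U₀) (fun y => Iff.rfl) hE (he x)
    obtain ⟨c, hc⟩ := (hE'.res (le_sup_left : U₀ ≤ O x)).bijective.2 E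
    simp only at hc
    have hcu : IsUnit c := (hE'.res (le_sup_left : U₀ ≤ O x)).isUnit_of_smul (by rw [hc]; exact hE)
    obtain ⟨w, hw, hwc⟩ := exists_ext_unit hle hne₀ hU₀ hcu
    refine ⟨ores (hO x) w • E', hE'.smul_unit (hw.map _), ?_⟩
    rw [mres_smul, ores_ores, hwc]
    exact hc
  choose τ hτf hτE using hτ
  have hcov : U ≤ iSup O := fun y hy => Opens.mem_iSup.2
    ⟨⟨y, hy⟩, (le_sup_right : _ ≤ O ⟨y, hy⟩) (hxg ⟨y, hy⟩)⟩
  obtain ⟨t, ht, -⟩ := TopCat.Sheaf.existsUnique_gluing' ⟨M.presheaf, M.isSheaf⟩ O U (fun x => homOfLE (hO x))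
    hcov τ fun x y => by
      show mres M inf_le_left (τ x) = mres M inf_le_right (τ y)
      obtain ⟨v, hv⟩ := ((hτf y).res (inf_le_right : O x ⊓ O y ≤ O y)).bijective.2
        (mres M (inf_le_left : O x ⊓ O y ≤ O x) (τ x))
      simp only at hv
      have h0 : U₀ ≤ O x ⊓ O y := le_inf le_sup_left le_sup_left
      have hv1 : v = 1 := by
        refine ParaFUFD.ores_injective h0 hne₀ (hE.bijective.1 ?_)
        show ores h0 v • E = ores h0 1 • E
        have := congrArg (mres M h0) hv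
        rw [mres_smul, mres_mres, mres_mres, hτE, hτE] at this
        rw [map_one, one_smul]
        exact this
      rw [← hv, hv1, one_smul]
  refine ⟨t, IsFrame.of_cover O hO hcov fun x => ?_⟩
  rw [show mres M (hO x) t = τ x from ht x]
  exact hτf x

end Groth.Agent.UFDExtend
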