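import Mathlib.RingTheory.UniqueFactorizationDomain.GCDMonoid
import Mathlib.Algebra.GCDMonoid.Finset
import Mathlib.Tactic.Ring
import Mathlib.RingTheory.Localization.AtPrime.Basic

/-!
# Adjusting a cocycle at a point with factorial local ring
-/

set_option autoImplicit false
set_option linter.style.haveILetI false

universe u

namespace Groth.Agent.UFDExtend

open scoped BigOperators

variable {R : Type u} [CommRing R] [IsDomain R]

theorem exists_adjust (p : Ideal R) [p.IsPrime]
    [UniqueFactorizationMonoid (Localization.AtPrime p)] {ι : Type u} [Fintype ι]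
    (h c : ι → R) (b : ι → ι → R) (n : ℕ)
    (hc : ∀ i j, c i * (h i * h j) ^ n = b i j * c j) (hc0 : ∀ i, c i ≠ 0) :
    ∃ (s : R) (β : ι → R), s ∉ p ∧ (∀ i, ∃ m, β i ∣ (s * h i) ^ m) ∧
      ∀ i j, β i * b i j * h j ^ n = β j * h i ^ n * (h i * h j) ^ n := by
  classical
  let A := Localization.AtPrime p
  haveI : IsDomain A := IsLocalization.isDomain_of_le_nonZeroDivisors (R := R) (S := A) (M := p.primeCompl)
    p.primeCompl_le_nonZeroDivisors
  letI : StrongNormalizationMonoid A := UniqueFactorizationMonoid.strongNormalizationMonoid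
  letI : StrongNormalizedGCDMonoid A := UniqueFactorizationMonoid.toStrongNormalizedGCDMonoid A
  have hinj : Function.Injective (algebraMap R A) :=
    IsLocalization.injective A p.primeCompl_le_nonZeroDivisors
  let φ := algebraMap R A
  let g : A := Finset.univ.gcd fun j => φ (c j * h j ^ n)
  have hg1 : ∀ i, g ∣ φ (c i * h i ^ n) := fun i => Finset.gcd_dvd (Finset.mem_univ i)
  have hg2 : ∀ i, φ (c i) ∣ g * φ (h i ^ n) := fun i => by
    have h1 : φ (c i) ∣ Finset.univ.gcd fun j => φ (c j * h j ^ n) * φ (h i ^ n) := by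
      refine Finset.dvd_gcd fun j _ => ⟨φ (b j i), ?_⟩
      rw [← map_mul, ← map_mul, mul_assoc, ← mul_pow, hc j i, mul_comm]
    rw [Finset.gcd_mul_right] at h1
    exact h1.trans (mul_dvd_mul_left _ (normalize_associated (φ (h i ^ n))).dvd)
  obtain ⟨⟨g0, d⟩, hgd⟩ := IsLocalization.surj p.primeCompl g
  have hd : IsUnit (φ d) := IsLocalization.map_units A d
  simp only at hgd
  have div : ∀ x y : R, φ x ∣ φ y → ∃ s ∉ p, ∃ a, s * y = x * a := fun x y ⟨q, hq⟩ => by
    obtain ⟨⟨a, s⟩, hqs⟩ := IsLocalization.surj p.primeCompl q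
    exact ⟨s.1, s.2, a, hinj (by rw [map_mul, map_mul, hq, ← hqs]; ring)⟩
  have h1 : ∀ i, φ g0 ∣ φ (c i * h i ^ n) := fun i => by
    rw [← hgd, hd.mul_right_dvd]; exact hg1 i
  have h2 : ∀ i, φ (c i) ∣ φ (g0 * h i ^ n) := fun i => by
    rw [map_mul, ← hgd, mul_right_comm]; exact (hg2 i).mul_right _
  choose s hs a ha using fun i => div _ _ (h1 i)
  choose t ht β hβ using fun i => div _ _ (h2 i)
  let T := ∏ i, t i
  let S := ∏ i, s i
  have hT : ∀ i, t i * ∏ k ∈ Finset.univ.erase i, t k = T := fun i =>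
    Finset.mul_prod_erase _ _ (Finset.mem_univ i)
  have hS : ∀ i, s i * ∏ k ∈ Finset.univ.erase i, s k = S := fun i =>
    Finset.mul_prod_erase _ _ (Finset.mem_univ i)
  refine ⟨T * S, fun i => β i * ∏ k ∈ Finset.univ.erase i, t k, ?_, fun i => ?_, fun i j => ?_⟩
  · intro hTS
    rcases Ideal.IsPrime.mem_or_mem ‹p.IsPrime› hTS with hh | hh
    · obtain ⟨i, -, hi⟩ := (Ideal.IsPrime.prod_mem_iff (p := p)).1 hh
      exact ht i hi
    · obtain ⟨i, -, hi⟩ := (Ideal.IsPrime.prod_mem_iff (p := p)).1 hh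
      exact hs i hi
  · have key : s i * t i * h i ^ (2 * n) = a i * β i := by
      refine mul_left_cancel₀ (hc0 i) ?_
      calc c i * (s i * t i * h i ^ (2 * n)) = t i * ((s i * (c i * h i ^ n)) * h i ^ n) := by ring
        _ = t i * ((g0 * a i) * h i ^ n) := by rw [ha]
        _ = a i * (t i * (g0 * h i ^ n)) := by ring
        _ = a i * (c i * β i) := by rw [hβ]
        _ = c i * (a i * β i) := by ring
    refine ⟨2 * n + 1, a i * (∏ k ∈ Finset.univ.erase i, s k) * (T * S) ^ (2 * n) * h i, ?_⟩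
    calc (T * S * h i) ^ (2 * n + 1) = (T * S) * h i ^ (2 * n) * ((T * S) ^ (2 * n) * h i) := by ring
      _ = (s i * t i * h i ^ (2 * n)) * ((∏ k ∈ Finset.univ.erase i, t k) *
            ((∏ k ∈ Finset.univ.erase i, s k) * (T * S) ^ (2 * n) * h i)) := by
          generalize (T * S) ^ (2 * n) = X
          rw [← hT i, ← hS i]
          ring
      _ = _ := by rw [key]; ring
  · refine mul_left_cancel₀ (hc0 j) ?_
    have e : ∀ i, c i * (β i * ∏ k ∈ Finset.univ.erase i, t k) = T * (g0 * h i ^ n) := fun i => by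
      rw [← mul_assoc, ← hβ, mul_comm (t i), mul_assoc, hT, mul_comm]
    calc c j * (β i * (∏ k ∈ Finset.univ.erase i, t k) * b i j * h j ^ n)
        = (b i j * c j) * (β i * ∏ k ∈ Finset.univ.erase i, t k) * h j ^ n := by ring
      _ = (h i * h j) ^ n * (c i * (β i * ∏ k ∈ Finset.univ.erase i, t k)) * h j ^ n := by
          rw [← hc]; ring
      _ = (h i * h j) ^ n * (T * (g0 * h i ^ n)) * h j ^ n := by rw [e]
      _ = h i ^ n * (h i * h j) ^ n * (T * (g0 * h j ^ n)) := by ring
      _ = h i ^ n * (h i * h j) ^ n * (c j * (β j * ∏ k ∈ Finset.univ.erase j, t k)) := by rw [e]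
      _ = _ := by ring

end Groth.Agent.UFDExtend
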