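import Groth.Agent.UFDExtend.Alg
import Groth.Agent.GenLocus.PullTensor
import Groth.Agent.GenLocus.Extend
import Mathlib.AlgebraicGeometry.SpreadingOut
import Mathlib.AlgebraicGeometry.Noetherian

/-!
# Frames across a closed subset with factorial local rings
-/

set_option autoImplicit false
set_option backward.isDefEq.respectTransparency false
set_option backward.isDefEq.respectTransparency.types false
set_option linter.style.haveILetI false

noncomputable section

universe u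

open CategoryTheory AlgebraicGeometry Opposite TopologicalSpace
open Groth.Agent.QCohBase Groth.Agent.GenLocus

namespace Groth.Agent.UFDExtend

variable {X : Scheme.{u}} {M : X.Modules} {U : X.Opens}

variable (M U) in
/-- A frame of `M` on the trace on `U` of an open. -/
structure Chart where
  /-- the open -/
  W : X.Opens
  /-- the frame -/
  e : Γ(M, W ⊓ U)
  frame : IsFrame M e

variable (X U) in
/-- Functions are determined by their restriction to `U`. -/
def InjRes : Prop := ∀ O : X.Opens, Function.Injective (ores (inf_le_left : O ⊓ U ≤ O))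

namespace Chart

variable (p q r : Chart M U)

/-- The frame on a smaller open. -/
abbrev res {O : X.Opens} (h : O ≤ p.W) : Γ(M, O ⊓ U) := mres M (inf_le_inf_right U h) p.e

/-- `u` changes the frame of `q` into the one of `p` on `O`. -/
def Chg (O : X.Opens) (hp : O ≤ p.W) (hq : O ≤ q.W) (u : Γ(X, O)) : Prop :=
  ores (inf_le_left : O ⊓ U ≤ O) u • q.res hq = p.res hp

/-- Two charts differ by a unit on their overlap. -/
def Compat : Prop :=
  ∃ u : Γ(X, p.W ⊓ q.W), IsUnit u ∧ Chg p q (p.W ⊓ q.W) inf_le_left inf_le_right u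

variable {p q r}

theorem res_frame {O : X.Opens} (h : O ≤ p.W) : IsFrame M (p.res h) := p.frame.res _

theorem Chg.mono {O O' : X.Opens} {hp : O ≤ p.W} {hq : O ≤ q.W} {u : Γ(X, O)} (h : Chg p q O hp hq u)
    (hO : O' ≤ O) : Chg p q O' (hO.trans hp) (hO.trans hq) (ores hO u) := by
  have h' := congrArg (mres M (inf_le_inf_right U hO)) (show _ = _ from h)
  simp only [res, mres_smul, mres_mres, ores_ores] at h'
  simp only [Chg, res, ores_ores]
  exact h'

theorem Chg.uniq (hinj : InjRes X U) {O : X.Opens} {hp : O ≤ p.W} {hq : O ≤ q.W} {u v : Γ(X, O)}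
    (hu : Chg p q O hp hq u) (hv : Chg p q O hp hq v) : u = v :=
  hinj O ((q.res_frame hq).bijective.1 (hu.trans hv.symm))

theorem Chg.trans {O : X.Opens} {hp : O ≤ p.W} {hq : O ≤ q.W} {hr : O ≤ r.W} {u v : Γ(X, O)}
    (hu : Chg p q O hp hq u) (hv : Chg q r O hq hr v) : Chg p r O hp hr (u * v) := by
  show _ • _ = _
  rw [map_mul, mul_smul, show _ • r.res hr = q.res hq from hv]
  exact hu

theorem chg_self {O : X.Opens} (h : O ≤ p.W) : Chg p p O h h 1 := by
  show _ • _ = _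
  rw [map_one, one_smul]

theorem Compat.refl : Compat p p := ⟨1, isUnit_one, chg_self _⟩

theorem Compat.symm (h : Compat p q) : Compat q p := by
  obtain ⟨u, hu, hc⟩ := h
  obtain ⟨v, hv⟩ := hu.exists_left_inv
  have hc' := hc.mono (inf_comm q.W p.W).le
  refine ⟨ores (inf_comm q.W p.W).le v, (IsUnit.of_mul_eq_one u hv).map _, ?_⟩
  show _ • _ = _
  rw [← show _ • q.res _ = p.res _ from hc', smul_smul, ← map_mul, ← map_mul, hv, map_one, map_one,
    one_smul]

theorem Compat.chg (h : Compat p q) {O : X.Opens} (hp : O ≤ p.W) (hq : O ≤ q.W) :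
    ∃ u : Γ(X, O), IsUnit u ∧ Chg p q O hp hq u := by
  obtain ⟨u, hu, hc⟩ := h
  exact ⟨ores (le_inf hp hq) u, hu.map _, hc.mono (le_inf hp hq)⟩

theorem exists_chg_of_le {O : X.Opens} (hp : O ≤ p.W) (hq : O ≤ q.W) (hU : O ≤ U) :
    ∃ u : Γ(X, O), IsUnit u ∧ Chg p q O hp hq u := by
  obtain ⟨w, hw⟩ := (q.res_frame hq).bijective.2 (p.res hp)
  simp only at hw
  have hu : IsUnit w := (q.res_frame hq).isUnit_of_smul (hw ▸ p.res_frame hp)
  refine ⟨ores (le_inf le_rfl hU) w, hu.map _, ?_⟩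
  show _ • _ = _
  rw [ores_ores]
  simpa [ores] using hw

theorem exists_chg_of_cover (hinj : InjRes X U) {O : X.Opens} {hp : O ≤ p.W} {hq : O ≤ q.W}
    {ι : Type u} (P : ι → X.Opens) (hP : ∀ i, P i ≤ O) (hcov : O ≤ iSup P) (u : ∀ i, Γ(X, P i))
    (hu : ∀ i, IsUnit (u i)) (hc : ∀ i, Chg p q (P i) ((hP i).trans hp) ((hP i).trans hq) (u i)) :
    ∃ w : Γ(X, O), IsUnit w ∧ Chg p q O hp hq w := by
  obtain ⟨w, hw, -⟩ := TopCat.Sheaf.existsUnique_gluing' X.sheaf P O (fun i => homOfLE (hP i)) hcov u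
    (fun i j => ((hc i).mono inf_le_left).uniq hinj ((hc j).mono inf_le_right))
  have hw' : ∀ i, ores (hP i) w = u i := hw
  refine ⟨w, RingedSpace.isUnit_of_isUnit_germ X.toRingedSpace O w fun y hy => ?_, ?_⟩
  · obtain ⟨i, hi⟩ := Opens.mem_iSup.1 (hcov hy)
    have := (hu i).map (X.presheaf.germ (P i) y hi).hom
    rw [← hw' i] at this
    erw [TopCat.Presheaf.germ_res_apply] at this
    exact this
  · refine eq_of_iSup_le M (fun i => P i ⊓ U) (fun i => inf_le_inf_right U (hP i)) ?_ _ _ fun i => ?_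
    · rintro y ⟨hy, hyU⟩
      obtain ⟨i, hi⟩ := Opens.mem_iSup.1 (hcov hy)
      exact Opens.mem_iSup.2 ⟨i, hi, hyU⟩
    · have h := hc i
      simp only [Chg, res, ← hw' i, ores_ores] at h
      simp only [res, mres_smul, mres_mres, ores_ores]
      exact h

end Chart

theorem ores_injective_affine {W : X.Opens} (hW : IsAffineOpen W) [IsDomain Γ(X, W)] {h : Γ(X, W)}
    (hh : h ≠ 0) : Function.Injective (ores (X.basicOpen_le h)) := by
  haveI := hW.isLocalization_basicOpen h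
  exact IsLocalization.injective (R := Γ(X, W)) Γ(X, X.basicOpen h)
    (powers_le_nonZeroDivisors_of_noZeroDivisors hh)

theorem exists_num {W : X.Opens} (hW : IsAffineOpen W) (h : Γ(X, W)) (u : Γ(X, X.basicOpen h)) :
    ∃ (n : ℕ) (b : Γ(X, W)), u * ores (X.basicOpen_le h) (h ^ n) = ores (X.basicOpen_le h) b := by
  haveI := hW.isLocalization_basicOpen h
  obtain ⟨⟨b, ⟨_, n, rfl⟩⟩, hb⟩ := IsLocalization.surj (Submonoid.powers h) u
  exact ⟨n, b, hb⟩

open Chart in
/-- A frame across a point with factorial local ring, compatible with given charts. -/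
theorem exists_chart (hinj : InjRes X U) (S : Set (Chart M U)) (hS : ∀ p ∈ S, ∀ q ∈ S, Compat p q)
    (hUS : ∀ y ∈ U, ∃ p ∈ S, y ∈ p.W) (x : X) {W : X.Opens} (hW : IsAffineOpen W) (hx : x ∈ W)
    [IsDomain Γ(X, W)] (hcpt : ∀ O ≤ W, IsCompact (O : Set X))
    [UniqueFactorizationMonoid (Localization.AtPrime (hW.primeIdealOf ⟨x, hx⟩).asIdeal)]
    (hne : ∃ y ∈ W, y ∈ U) :
    ∃ q : Chart M U, x ∈ q.W ∧ ∀ p ∈ S, Compat q p := by
  classical
  let V : X.Opens := ⨆ p : S, p.1.W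
  let I := {y : X // y ∈ W ∧ y ∈ V}
  have hI : ∀ y : I, ∃ p ∈ S, y.1 ∈ p.W := fun y => by
    obtain ⟨p, hp⟩ := Opens.mem_iSup.1 y.2.2
    exact ⟨p.1, p.2, hp⟩
  choose q hqS hyq using hI
  choose h hh hyh using fun y : I => hW.exists_basicOpen_le ⟨y.1, hyq y⟩ y.2.1
  obtain ⟨T, hT⟩ : ∃ T : Finset I, ∀ y : I, ∃ i ∈ T, y.1 ∈ X.basicOpen (h i) := by
    obtain ⟨T, hT⟩ := (hcpt (W ⊓ V) inf_le_left).elim_finite_subcover
      (fun i : I => (X.basicOpen (h i) : Set X)) (fun i => (X.basicOpen (h i)).2)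
      (fun z hz => Set.mem_iUnion.2 ⟨⟨z, hz⟩, hyh ⟨z, hz⟩⟩)
    refine ⟨T, fun y => ?_⟩
    obtain ⟨i, hi, hyi⟩ := Set.mem_iUnion₂.1 (hT y.2)
    exact ⟨i, hi, hyi⟩
  have h0 : ∀ i : T, h i.1 ≠ 0 := fun i he => by
    have := hyh i.1
    rw [he, Scheme.basicOpen_zero] at this
    exact this
  obtain ⟨i₀⟩ : Nonempty T := by
    obtain ⟨y, hyW, hyU⟩ := hne
    obtain ⟨p, hp, hyp⟩ := hUS y hyU
    obtain ⟨i, hi, -⟩ := hT ⟨y, hyW, Opens.mem_iSup.2 ⟨⟨p, hp⟩, hyp⟩⟩
    exact ⟨⟨i, hi⟩⟩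
  let Q : T → T → X.Opens := fun i j => X.basicOpen (h i.1 * h j.1)
  have hQi : ∀ i j, Q i j ≤ X.basicOpen (h i.1) := fun i j => by
    simp only [Q, Scheme.basicOpen_mul]; exact inf_le_left
  have hQj : ∀ i j, Q i j ≤ X.basicOpen (h j.1) := fun i j => by
    simp only [Q, Scheme.basicOpen_mul]; exact inf_le_right
  choose u hu huc using fun i j : T => (hS _ (hqS i.1) _ (hqS j.1)).chg
    ((hQi i j).trans (hh i.1)) ((hQj i j).trans (hh j.1))
  choose m b hb using fun i j : T => exists_num hW (h i.1 * h j.1) (u i j)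
  let n := ∑ z : T × T, m z.1 z.2
  let B : T → T → Γ(X, W) := fun i j => b i j * (h i.1 * h j.1) ^ (n - m i j)
  have hQW : ∀ i j, Q i j ≤ W := fun i j => X.basicOpen_le _
  have hB : ∀ i j, u i j * ores (hQW i j) ((h i.1 * h j.1) ^ n) = ores (hQW i j) (B i j) :=
    fun i j => by
    have hle : m i j ≤ n := Finset.single_le_sum (f := fun z : T × T => m z.1 z.2)
      (fun _ _ => Nat.zero_le _) (Finset.mem_univ (i, j))
    show u i j * ores (X.basicOpen_le (h i.1 * h j.1)) _ = ores (X.basicOpen_le (h i.1 * h j.1)) (b i j * _)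
    rw [map_mul, ← hb i j, mul_assoc, ← map_mul, ← pow_add, Nat.add_sub_cancel' hle]
  let c : T → Γ(X, W) := fun i => B i i₀ * ∏ k ∈ Finset.univ.erase i, h k.1 ^ n
  have hc0 : ∀ i, c i ≠ 0 := fun i => by
    refine mul_ne_zero (fun he => ?_) (Finset.prod_ne_zero_iff.2 fun k _ => pow_ne_zero _ (h0 k))
    have hinj' := ores_injective_affine hW (mul_ne_zero (h0 i) (h0 i₀))
    have e := hB i i₀
    rw [he, map_zero, (hu i i₀).mul_right_eq_zero, ← map_zero (ores (hQW i i₀))] at e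
    exact pow_ne_zero n (mul_ne_zero (h0 i) (h0 i₀)) (hinj' e)
  have hc : ∀ i j, c i * (h i.1 * h j.1) ^ n = B i j * c j := fun i j => by
    set k := h i.1 * h j.1 * h i₀.1
    have hk : k ≠ 0 := mul_ne_zero (mul_ne_zero (h0 i) (h0 j)) (h0 i₀)
    refine ores_injective_affine hW hk ?_
    have hki : X.basicOpen k ≤ X.basicOpen (h i.1) ⊓ X.basicOpen (h j.1) ⊓ X.basicOpen (h i₀.1) := by
      simp only [k, Scheme.basicOpen_mul]; exact le_rfl
    have h_ij : X.basicOpen k ≤ Q i j := hki.trans (by simp only [Q, Scheme.basicOpen_mul]; exact inf_le_left)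
    have h_i0 : X.basicOpen k ≤ Q i i₀ := hki.trans (by
      simp only [Q, Scheme.basicOpen_mul]; exact le_inf (inf_le_left.trans inf_le_left) inf_le_right)
    have h_j0 : X.basicOpen k ≤ Q j i₀ := hki.trans (by
      simp only [Q, Scheme.basicOpen_mul]; exact le_inf (inf_le_left.trans inf_le_right) inf_le_right)
    have huu : ores h_i0 (u i i₀) = ores h_ij (u i j) * ores h_j0 (u j i₀) :=
      ((huc i i₀).mono h_i0).uniq hinj (((huc i j).mono h_ij).trans ((huc j i₀).mono h_j0))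
    have e : ∀ a a' (ha : X.basicOpen k ≤ Q a a'),
        ores ha (u a a') * ores (X.basicOpen_le k) ((h a.1 * h a'.1) ^ n) =
          ores (X.basicOpen_le k) (B a a') := fun a a' ha => by
      have := congrArg (ores ha) (hB a a')
      simpa only [map_mul, ores_ores] using this
    have hP : ∀ a : T, h a.1 ^ n * ∏ l ∈ Finset.univ.erase a, h l.1 ^ n = ∏ l : T, h l.1 ^ n := fun a =>
      Finset.mul_prod_erase _ (fun l : T => h l.1 ^ n) (Finset.mem_univ a)
    have e1 : ∀ a (ha : X.basicOpen k ≤ Q a i₀), ores (X.basicOpen_le k) (c a) =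
        ores ha (u a i₀) * ores (X.basicOpen_le k) (h i₀.1 ^ n * ∏ l : T, h l.1 ^ n) := fun a ha => by
      simp only [c]
      rw [map_mul, ← e a i₀ ha, ← hP a, mul_pow, mul_assoc, ← map_mul]
      congr 2
      ring
    rw [map_mul _ (c i), map_mul _ (B i j), e1 i h_i0, e1 j h_j0, huu, ← e i j h_ij]
    ring
  obtain ⟨s, β, hs, hβ, hrel⟩ := exists_adjust (hW.primeIdealOf ⟨x, hx⟩).asIdeal
    (fun i : T => h i.1) c B n hc hc0
  let P : T → X.Opens := fun i => X.basicOpen (s * h i.1)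
  have hPh : ∀ i, P i ≤ X.basicOpen (h i.1) := fun i => by
    simp only [P, Scheme.basicOpen_mul]; exact inf_le_right
  have hPs : ∀ i, P i ≤ X.basicOpen s := fun i => by
    simp only [P, Scheme.basicOpen_mul]; exact inf_le_left
  have hunit : ∀ {t : Γ(X, W)} {O : X.Opens} (hO : O ≤ W), O ≤ X.basicOpen t → IsUnit (ores hO t) :=
    fun {t O} hO hle => RingedSpace.isUnit_of_isUnit_germ X.toRingedSpace O _ fun y hy => by
      erw [TopCat.Presheaf.germ_res_apply]
      exact (X.mem_basicOpen t y (hO hy)).1 (hle hy)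
  have hPW : ∀ i, P i ≤ W := fun i => X.basicOpen_le _
  have hhu : ∀ i, IsUnit (ores (hPW i) (h i.1 ^ n)) := fun i => by
    rw [map_pow]; exact (hunit _ (hPh i)).pow n
  choose v hv using fun i => (hhu i).exists_right_inv
  let w : ∀ i, Γ(X, P i) := fun i => ores (hPW i) (β i) * v i
  have hwu : ∀ i, IsUnit (w i) := fun i => by
    obtain ⟨l, hl⟩ := hβ i
    refine IsUnit.mul (isUnit_of_dvd_unit (map_dvd (ores (hPW i)) hl) ?_) (IsUnit.of_mul_eq_one_right _ (hv i))
    rw [map_pow]; exact (hunit (t := s * h i.1) (hPW i) le_rfl).pow l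
  have hPq : ∀ i : T, P i ≤ (q i.1).W := fun i => (hPh i).trans (hh i.1)
  have hPij : ∀ i j, P i ⊓ P j ≤ Q i j := fun i j => by
    simp only [Q, Scheme.basicOpen_mul]; exact inf_le_inf (hPh i) (hPh j)
  have hwij : ∀ i j, ores (inf_le_left : P i ⊓ P j ≤ P i) (w i) * ores (hPij i j) (u i j) =
      ores (inf_le_right : P i ⊓ P j ≤ P j) (w j) := fun i j => by
    set O := P i ⊓ P j
    have hOW : O ≤ W := inf_le_left.trans (hPW i)
    have e1 := congrArg (ores (inf_le_left : O ≤ P i)) (hv i)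
    have e2 := congrArg (ores (inf_le_right : O ≤ P j)) (hv j)
    have e3 := congrArg (ores (hPij i j)) (hB i j)
    have e4 := congrArg (ores hOW) (hrel i j)
    simp only [w, map_mul, map_one, map_pow, ores_ores] at e1 e2 e3 e4 ⊢
    have hU3 : IsUnit (ores hOW (h i.1) ^ n * ores hOW (h j.1) ^ n * (ores hOW (h i.1) * ores hOW (h j.1)) ^ n) :=
      (((hunit hOW (inf_le_left.trans (hPh i))).pow n).mul ((hunit hOW (inf_le_right.trans (hPh j))).pow n)).mul
        (((hunit hOW (inf_le_left.trans (hPh i))).mul (hunit hOW (inf_le_right.trans (hPh j)))).pow n)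
    refine hU3.mul_left_cancel ?_
    linear_combination (ores hOW (β i) * ores (hPij i j) (u i j) * ores hOW (h j.1) ^ n *
        (ores hOW (h i.1) * ores hOW (h j.1)) ^ n) * e1
      + (ores hOW (β i) * ores hOW (h j.1) ^ n) * e3 + e4
      - (ores hOW (β j) * ores hOW (h i.1) ^ n * (ores hOW (h i.1) * ores hOW (h j.1)) ^ n) * e2
  let σ : ∀ i, Γ(M, P i ⊓ U) := fun i => ores (inf_le_left : P i ⊓ U ≤ P i) (w i) • (q i.1).res (hPq i)
  have hcov : X.basicOpen s ⊓ U ≤ ⨆ i, P i ⊓ U := fun y ⟨hy, hyU⟩ => by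
    obtain ⟨p, hp, hyp⟩ := hUS y hyU
    obtain ⟨i, hi, hyi⟩ := hT ⟨y, X.basicOpen_le s hy, Opens.mem_iSup.2 ⟨⟨p, hp⟩, hyp⟩⟩
    refine Opens.mem_iSup.2 ⟨⟨i, hi⟩, ?_, hyU⟩
    simp only [P, Scheme.basicOpen_mul]
    exact ⟨hy, hyi⟩
  obtain ⟨e, he, -⟩ := TopCat.Sheaf.existsUnique_gluing' ⟨M.presheaf, M.isSheaf⟩ (fun i => P i ⊓ U)
    (X.basicOpen s ⊓ U) (fun i => homOfLE (inf_le_inf_right U (hPs i))) hcov σ fun i j => by
      show mres M inf_le_left (σ i) = mres M inf_le_right (σ j)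
      have hle : (P i ⊓ U) ⊓ (P j ⊓ U) ≤ (P i ⊓ P j) ⊓ U :=
        le_inf (le_inf (inf_le_left.trans inf_le_left) (inf_le_right.trans inf_le_left)) (inf_le_left.trans inf_le_right)
      have e1 := congrArg (mres M hle) (show _ • _ = _ from (huc i j).mono (hPij i j))
      have e2 := congrArg (ores (hle.trans inf_le_left)) (hwij i j)
      simp only [σ, Chart.res, mres_smul, mres_mres, ores_ores, map_mul] at e1 e2 ⊢
      rw [← e1, smul_smul, e2]
  have he' : ∀ i, mres M (inf_le_inf_right U (hPs i)) e = σ i := he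
  let qn : Chart M U := ⟨X.basicOpen s, e, IsFrame.of_cover _ (fun i => inf_le_inf_right U (hPs i)) hcov
    fun i => by rw [he']; exact ((q i.1).res_frame (hPq i)).smul_unit ((hwu i).map _)⟩
  have hqn : ∀ i, Chg qn (q i.1) (P i) (hPs i) (hPq i) (w i) := fun i => (he' i).symm
  refine ⟨qn, (QCohBase.mem_basicOpen_iff_notMem_prime hW x hx s).2 hs, fun p hp => ?_⟩
  let P' : T → X.Opens := fun i => P i ⊓ p.W
  choose z hz hzc using fun i : T => (hS _ (hqS i.1) p hp).chg
    ((inf_le_left : P' i ≤ P i).trans (hPq i)) (inf_le_right : P' i ≤ p.W)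
  refine exists_chg_of_cover hinj (O := X.basicOpen s ⊓ p.W) P' (fun i => inf_le_inf_right _ (hPs i)) ?_
    (fun i => ores inf_le_left (w i) * z i) (fun i => ((hwu i).map _).mul (hz i))
    (fun i => ((hqn i).mono inf_le_left).trans (hzc i))
  rintro y ⟨hy, hyp⟩
  obtain ⟨i, hi, hyi⟩ := hT ⟨y, X.basicOpen_le s hy, Opens.mem_iSup.2 ⟨⟨p, hp⟩, hyp⟩⟩
  refine Opens.mem_iSup.2 ⟨⟨i, hi⟩, ?_, hyp⟩
  simp only [P, Scheme.basicOpen_mul]
  exact ⟨hy, hyi⟩

end Groth.Agent.UFDExtend
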